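import Mathlib.RingTheory.Flat.EquationalCriterion
import Mathlib.LinearAlgebra.TensorProduct.Quotient
import Mathlib.RingTheory.Nilpotent.Defs

/-!
Generators and relations of a flat module over a square zero extension.
-/

universe u

open TensorProduct

noncomputable section

namespace Groth.Agent.FP47

variable {R A : Type u} [CommRing R] [CommRing A] [Algebra R A] (I : Ideal R) (hI : I * I = ⊥)
  {M : Type u} [AddCommGroup M] [Module A M]

local notation "J" => Ideal.map (algebraMap R A) I

include hI in
theorem eq_top_of_forall (N : Submodule A M) (h : ∀ m : M, ∃ x ∈ N, m - x ∈ J • (⊤ : Submodule A M)) :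
    N = ⊤ := by
  have hJJ : J * J = ⊥ := by rw [← Ideal.map_mul, hI, Ideal.map_bot]
  have h1 : J • (⊤ : Submodule A M) ≤ N := by
    refine Submodule.smul_le.2 fun a ha m _ => ?_
    obtain ⟨x, hx, hmx⟩ := h m
    have h2 : a • (m - x) ∈ (J * J) • (⊤ : Submodule A M) := by
      rw [Submodule.mul_smul]
      exact Submodule.smul_mem_smul ha hmx
    rw [hJJ, Submodule.bot_smul, Submodule.mem_bot, smul_sub, sub_eq_zero] at h2
    rw [h2]
    exact N.smul_mem a hx
  refine eq_top_iff.2 fun m _ => ?_
  obtain ⟨x, hx, hmx⟩ := h m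
  simpa using add_mem hx (h1 hmx)

/-- Elements of the ideal generated by `I` times the module are combinations with coefficients in `I`. -/
theorem exists_sum_of_mem {N : Type u} [AddCommGroup N] [Module A N] [Module R N] [IsScalarTower R A N]
    {x : N} (hx : x ∈ J • (⊤ : Submodule A N)) :
    ∃ (l : ℕ) (r : Fin l → R) (v : Fin l → N), (∀ j, r j ∈ I) ∧ ∑ j, r j • v j = x := by
  have : x ∈ (I • (⊤ : Submodule R N)) := by
    rw [← Submodule.restrictScalars_top (R := A), ] at *
    refine Submodule.smul_induction_on hx (fun a ha n _ => ?_) fun y z hy hz => add_mem hy hz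
    refine Submodule.span_induction ?_ (by simp) (fun y z _ _ hy hz => ?_) (fun c y _ hy => ?_) ha
      (p := fun a _ => ∀ n : N, a • n ∈ I • (Submodule.restrictScalars R (⊤ : Submodule A N))) n
    · rintro _ ⟨r, hr, rfl⟩ n
      rw [algebraMap_smul]
      exact Submodule.smul_mem_smul hr trivial
    · intro n; rw [add_smul]; exact add_mem (hy n) (hz n)
    · intro n; rw [smul_assoc, ← smul_comm]; exact hy _
  refine Submodule.smul_induction_on this (fun r hr n _ => ⟨1, fun _ => r, fun _ => n, fun _ => hr, by simp⟩) ?_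
  rintro y z ⟨l, r, v, hr, rfl⟩ ⟨l', r', v', hr', rfl⟩
  refine ⟨l + l', Fin.append r r', Fin.append v v', fun j => ?_, ?_⟩
  · induction j using Fin.addCases with
    | left i => simpa using hr i
    | right i => simpa using hr' i
  · simp [Fin.sum_univ_add]

variable [Module R M] [IsScalarTower R A M]

omit [Module R M] [IsScalarTower R A M] in
/-- A congruence in the kernel lifts. -/
theorem exists_correction {ι : Type u} (φ : (ι → A) →ₗ[A] M) (hφ : Function.Surjective φ) (v : ι → A)
    (h : φ v ∈ J • (⊤ : Submodule A M)) : ∃ w ∈ J • (⊤ : Submodule A (ι → A)), φ (v - w) = 0 := by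
  have h' : φ v ∈ (J • (⊤ : Submodule A (ι → A))).map φ := by
    rwa [Submodule.map_smul'', Submodule.map_top, LinearMap.range_eq_top.2 hφ]
  obtain ⟨w, hw, hw'⟩ := h'
  exact ⟨w, hw, by rw [map_sub, hw', sub_self]⟩

variable [Module.Flat R M]

include hI in
/-- Generators of the relations modulo `I` generate the relations. -/
theorem ker_le {ι : Type u} (φ : (ι → A) →ₗ[A] M) (hφ : Function.Surjective φ) (S : Submodule A (ι → A))
    (hS : S ≤ LinearMap.ker φ)
    (h : ∀ k, φ k = 0 → ∃ x ∈ S, k - x ∈ J • (⊤ : Submodule A (ι → A))) : LinearMap.ker φ ≤ S := by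
  -- kernel ∩ I (A^ι) = I kernel
  have key : ∀ k, φ k = 0 → k ∈ J • (⊤ : Submodule A (ι → A)) → k ∈ J • LinearMap.ker φ := by
    intro k hk hkJ
    obtain ⟨l, r, v, hr, rfl⟩ := exists_sum_of_mem I hkJ
    have h0 : ∑ j, r j • φ (v j) = 0 := by
      rw [← hk, map_sum]
      exact Finset.sum_congr rfl fun j _ => ((φ.restrictScalars R).map_smul _ _).symm
    obtain ⟨m, a, y, hy, ha⟩ := Module.Flat.isTrivialRelation_of_sum_smul_eq_zero h0
    choose w hw using fun q => hφ (y q)
    let v' : Fin l → ι → A := fun j => v j - ∑ q, a j q • w q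
    have hv' : ∀ j, φ (v' j) = 0 := fun j => by
      simp only [v', map_sub, map_sum, LinearMap.map_smul_of_tower, hw]
      rw [← hy j, sub_self]
    have he : ∑ j, r j • v j = ∑ j, algebraMap R A (r j) • v' j := by
      simp only [v', algebraMap_smul, smul_sub, Finset.sum_sub_distrib, Finset.smul_sum, smul_smul]
      rw [Finset.sum_comm (f := fun j q => (r j * a j q) • w q)]
      have : ∀ q, ∑ j, (r j * a j q) • w q = 0 := fun q => by rw [← Finset.sum_smul, ha q, zero_smul]
      simp [this]
    rw [he]
    exact Submodule.sum_mem _ fun j _ => Submodule.smul_mem_smul (Ideal.mem_map_of_mem _ (hr j)) (hv' j)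
  have hJJ : J * J = ⊥ := by rw [← Ideal.map_mul, hI, Ideal.map_bot]
  have h1 : J • LinearMap.ker φ ≤ S := by
    refine Submodule.smul_le.2 fun a ha k hk => ?_
    obtain ⟨x, hx, hkx⟩ := h k hk
    have h2 := key _ (by rw [map_sub, show φ k = 0 from hk, show φ x = 0 from hS hx, sub_self]) hkx
    have h3 : a • (k - x) ∈ (J * J) • LinearMap.ker φ := by
      rw [Submodule.mul_smul]
      exact Submodule.smul_mem_smul ha h2
    rw [hJJ, Submodule.bot_smul, Submodule.mem_bot, smul_sub, sub_eq_zero] at h3
    rw [h3]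
    exact S.smul_mem a hx
  intro k hk
  obtain ⟨x, hx, hkx⟩ := h k hk
  have h2 := key _ (by rw [map_sub, show φ k = 0 from hk, show φ x = 0 from hS hx, sub_self]) hkx
  simpa using add_mem hx (h1 h2)

end Groth.Agent.FP47

namespace Groth.Agent.FP47

/-- The kernel of a base change along a surjection. -/
theorem ker_baseChange {A S M N : Type u} [CommRing A] [CommRing S] [Algebra A S] [AddCommGroup M] [Module A M]
    [AddCommGroup N] [Module A N] [Module S N] [IsScalarTower A S N] (hA : Function.Surjective (algebraMap A S))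
    {f : M →ₗ[A] N} (hf : IsBaseChange S f) (m : M) :
    f m = 0 ↔ m ∈ RingHom.ker (algebraMap A S) • (⊤ : Submodule A M) := by
  constructor
  · intro h
    have h0 : ((1 : S) ⊗ₜ[A] m) = 0 := by
      refine hf.equiv.injective ?_
      rw [hf.equiv_tmul, one_smul, h, map_zero]
    let K := RingHom.ker (algebraMap A S)
    let ψ : (A ⧸ K) ≃ₗ[A] S :=
      (Submodule.quotEquivOfEq K (LinearMap.ker (Algebra.linearMap A S)) (by ext; rfl)).trans
        ((Algebra.linearMap A S).quotKerEquivOfSurjective hA)
    have h1 : (ψ.rTensor M) ((Ideal.Quotient.mk K 1) ⊗ₜ[A] m) = 0 := by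
      rw [LinearEquiv.rTensor_tmul]
      refine Eq.trans ?_ h0
      congr 1
      exact map_one (algebraMap A S)
    have h2 := congrArg (TensorProduct.quotTensorEquivQuotSMul M K)
      ((ψ.rTensor M).map_eq_zero_iff.1 h1)
    rw [TensorProduct.quotTensorEquivQuotSMul_mk_tmul, one_smul, map_zero, Submodule.Quotient.mk_eq_zero] at h2
    exact h2
  · intro h
    refine Submodule.smul_induction_on h (fun a ha n _ => ?_) fun x y hx hy => by rw [map_add, hx, hy, add_zero]
    rw [map_smul, ← algebraMap_smul S a, show algebraMap A S a = 0 from ha, zero_smul]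

theorem surjective_baseChange {A S M N : Type u} [CommRing A] [CommRing S] [Algebra A S] [AddCommGroup M] [Module A M]
    [AddCommGroup N] [Module A N] [Module S N] [IsScalarTower A S N] (hA : Function.Surjective (algebraMap A S))
    {f : M →ₗ[A] N} (hf : IsBaseChange S f) : Function.Surjective f := fun z => by
  obtain ⟨t, rfl⟩ := hf.equiv.surjective z
  induction t with
  | zero => exact ⟨0, by simp⟩
  | tmul s m =>
    obtain ⟨a, rfl⟩ := hA s
    exact ⟨a • m, by rw [map_smul, hf.equiv_tmul, algebraMap_smul]⟩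
  | add x y hx hy =>
    obtain ⟨a, ha⟩ := hx
    obtain ⟨b, hb⟩ := hy
    exact ⟨a + b, by rw [map_add, map_add, ha, hb]⟩

end Groth.Agent.FP47
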