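import Groth.Agent.FP47.Alg
import Groth.Agent.DCK91.PullStalk
import Groth.Agent.FlatMor68.FlatInfNbhd
import Groth.Agent.An92.FSch.Basic
import Groth.Agent.QC70.Stalk
import Groth.Agent.QC70.Coherent
import Groth.Agent.Props58.LocFree.FP
import Groth.Agent.SiteMod.FinType
import Groth.Agent.LimTop61.ModDescent
import Groth.Prelude.Def_MoreMor
import Groth.Prelude.Def_CohB1

/-!
Finite presentation descends along first order thickenings of flat modules.
-/

universe u

open CategoryTheory CategoryTheory.Limits AlgebraicGeometry Opposite TopologicalSpace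

set_option backward.isDefEq.respectTransparency.types false
set_option linter.style.haveILetI false

noncomputable section

namespace Groth.Agent.FP47

open QC70

variable {X X' : Scheme.{u}} (i : X ⟶ X') (M : X'.Modules)

/-- The inverse image of a section. -/
abbrev pullS {U : X'.Opens} (s : Γ(M, U)) : Γ((Scheme.Modules.pullback i).obj M, i ⁻¹ᵁ U) :=
  ((Scheme.Modules.pullbackPushforwardAdjunction i).unit.app M).app U s

/-- Combinations of finitely many sections in the stalk. -/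
def comb {n : ℕ} {Y : Scheme.{u}} (N : Y.Modules) {U : Y.Opens} (s : Fin n → Γ(N, U)) (y : Y) (hy : y ∈ U) :
    (ULift.{u} (Fin n) → Y.presheaf.stalk y) →ₗ[Y.presheaf.stalk y] N.presheaf.stalk y :=
  Fintype.linearCombination (Y.presheaf.stalk y) fun j => germM N U y hy (s j.down)

theorem comb_apply {n : ℕ} {Y : Scheme.{u}} (N : Y.Modules) {U : Y.Opens} (s : Fin n → Γ(N, U)) (y : Y) (hy : y ∈ U)
    (v : ULift.{u} (Fin n) → Y.presheaf.stalk y) :
    comb N s y hy v = ∑ j : ULift.{u} (Fin n), v j • germM N U y hy (s j.down) :=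
  Fintype.linearCombination_apply _ _ _

/-- Germs of a vector of functions. -/
abbrev germV {n : ℕ} {Y : Scheme.{u}} {U : Y.Opens} (y : Y) (hy : y ∈ U) (v : Fin n → Γ(Y, U)) :
    ULift.{u} (Fin n) → Y.presheaf.stalk y :=
  fun j => Y.presheaf.germ U y hy (v j.down)

theorem germM_lincomb {n : ℕ} {Y : Scheme.{u}} (N : Y.Modules) {U : Y.Opens} (s : Fin n → Γ(N, U)) (y : Y) (hy : y ∈ U)
    (v : Fin n → Γ(Y, U)) : germM N U y hy (∑ j, v j • s j) = comb N s y hy (germV y hy v) := by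
  rw [comb_apply]
  refine (map_sum (N.presheaf.germ U y hy).hom _ _).trans ?_
  exact Fintype.sum_equiv Equiv.ulift.symm _ _ fun j => germM_smul hy (v j) (s j)

section Affine

variable {Y : Scheme.{u}} (N : Y.Modules) [N.IsQuasicoherent] {V : Y.Opens} (hV : IsAffineOpen V)
  {n : ℕ} (s : Fin n → Γ(N, V))

include hV in
/-- On an affine open, generators of the relations generate the stalkwise relations. -/
theorem ker_comb_le {c : ℕ} (σ : Fin c → Fin n → Γ(Y, V))
    (h : ∀ v : Fin n → Γ(Y, V), ∑ j, v j • s j = 0 → v ∈ Submodule.span Γ(Y, V) (Set.range σ))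
    (y : Y) (hy : y ∈ V) :
    LinearMap.ker (comb N s y hy) ≤
      Submodule.span (Y.presheaf.stalk y) (Set.range fun l => germV y hy (σ l)) := by
  intro k hk
  letI := Y.presheaf.algebra_section_stalk ⟨y, hy⟩
  have := hV.isLocalization_stalk ⟨y, hy⟩
  obtain ⟨f, hf⟩ := IsLocalization.exist_integer_multiples_of_finite (S := Y.presheaf.stalk y)
    (hV.primeIdealOf ⟨y, hy⟩).asIdeal.primeCompl k
  choose b hb using hf
  let v : Fin n → Γ(Y, V) := fun j => b ⟨j⟩
  have hu : IsUnit (Y.presheaf.germ V y hy f.1) := IsLocalization.map_units (Y.presheaf.stalk y) f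
  have hv : germV y hy v = Y.presheaf.germ V y hy f.1 • k := funext fun j => by
    change algebraMap Γ(Y, V) _ (b j) = _
    rw [hb, Algebra.smul_def]
    rfl
  have h0 : germM N V y hy (∑ j, v j • s j) = 0 := by
    rw [germM_lincomb, hv, map_smul, show comb N s y hy k = 0 from hk, smul_zero]
  obtain ⟨g, hg, hg0⟩ := stalk_exists_smul_eq_zero (isLocAt_of_isQuasicoherent N hV) hV hy _ h0
  have hg' : IsUnit (Y.presheaf.germ V y hy g) := isUnit_germ hg
  have hmem := h (g • v) (by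
    rw [← hg0, Finset.smul_sum]
    exact Finset.sum_congr rfl fun j _ => by rw [Pi.smul_apply, smul_eq_mul, mul_smul])
  have key : germV y hy (g • v) ∈ Submodule.span (Y.presheaf.stalk y) (Set.range fun l => germV y hy (σ l)) := by
    refine Submodule.span_induction ?_ ?_ (fun a b _ _ ha hb => ?_) (fun r a _ ha => ?_) hmem
    · rintro _ ⟨l, rfl⟩; exact Submodule.subset_span ⟨l, rfl⟩
    · convert Submodule.zero_mem _; exact funext fun j => map_zero _
    · convert add_mem ha hb; exact funext fun j => map_add _ _ _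
    · convert Submodule.smul_mem _ (Y.presheaf.germ V y hy r) ha; exact funext fun j => map_mul _ _ _
  have e : germV y hy (g • v) = (Y.presheaf.germ V y hy g * Y.presheaf.germ V y hy f.1) • k := by
    rw [mul_smul, ← hv]
    exact funext fun j => map_mul _ _ _
  rw [e] at key
  exact (Submodule.smul_mem_iff_of_isUnit _ (hg'.mul hu)).1 key

include hV in
theorem surjective_comb (h : Submodule.span Γ(Y, V) (Set.range s) = ⊤) (y : Y) (hy : y ∈ V) :
    Function.Surjective (comb N s y hy) := by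
  intro e
  obtain ⟨f, t, hf, ht⟩ := stalk_exists_smul (isLocAt_of_isQuasicoherent N hV) hV hy e
  obtain ⟨c, hc⟩ := Submodule.mem_span_range_iff_exists_fun Γ(Y, V) |>.1 (h ▸ Submodule.mem_top : t ∈ _)
  obtain ⟨u, hu⟩ := (isUnit_germ hf).exists_left_inv
  refine ⟨u • germV y hy c, ?_⟩
  rw [map_smul, ← germM_lincomb, hc, ← ht, smul_smul, hu, one_smul]

include hV in
/-- Sections generating the stalk at a point generate on a basic open around it. -/
theorem exists_basicOpen_span (hN : Module.Finite Γ(Y, V) Γ(N, V)) (y : Y) (hy : y ∈ V)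
    (h : Function.Surjective (comb N s y hy)) :
    ∃ f : Γ(Y, V), y ∈ Y.basicOpen f ∧
      Submodule.span Γ(Y, Y.basicOpen f) (Set.range fun j => res N (Y.basicOpen_le f) (s j)) = ⊤ := by
  classical
  obtain ⟨T, hT⟩ := hN.fg_top
  have hloc : ∀ t : Γ(N, V), ∃ g : Γ(Y, V), y ∈ Y.basicOpen g ∧ g • t ∈ Submodule.span Γ(Y, V) (Set.range s) := by
    intro t
    obtain ⟨k, hk⟩ := h (germM N V y hy t)
    letI := Y.presheaf.algebra_section_stalk ⟨y, hy⟩
    have := hV.isLocalization_stalk ⟨y, hy⟩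
    obtain ⟨f, hf⟩ := IsLocalization.exist_integer_multiples_of_finite (S := Y.presheaf.stalk y)
      (hV.primeIdealOf ⟨y, hy⟩).asIdeal.primeCompl k
    choose b hb using hf
    have hv : germV y hy (fun j => b ⟨j⟩) = Y.presheaf.germ V y hy f.1 • k := funext fun j => by
      change algebraMap Γ(Y, V) _ (b j) = _
      rw [hb, Algebra.smul_def]
      rfl
    have h0 : germM N V y hy (f.1 • t - ∑ j, b ⟨j⟩ • s j) = 0 := by
      rw [show germM N V y hy (f.1 • t - ∑ j, b ⟨j⟩ • s j) =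
        germM N V y hy (f.1 • t) - germM N V y hy (∑ j, b ⟨j⟩ • s j) from map_sub _ _ _,
        germM_smul, germM_lincomb, hv, map_smul, hk, sub_self]
    obtain ⟨g, hg, hg0⟩ := stalk_exists_smul_eq_zero (isLocAt_of_isQuasicoherent N hV) hV hy _ h0
    refine ⟨g * f.1, ?_, ?_⟩
    · rw [Scheme.basicOpen_mul]
      exact ⟨hg, (Scheme.mem_basicOpen _ _ _ hy).2 (IsLocalization.map_units (Y.presheaf.stalk y) f)⟩
    · rw [smul_sub, sub_eq_zero] at hg0
      rw [mul_smul, hg0]
      exact Submodule.smul_mem _ _ (Submodule.sum_mem _ fun j _ => Submodule.smul_mem _ _ (Submodule.subset_span ⟨j, rfl⟩))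
  choose g hg hgs using hloc
  refine ⟨∏ t ∈ T, g t, ?_, ?_⟩
  · rw [Scheme.mem_basicOpen _ _ _ hy, map_prod]
    exact IsUnit.prod_iff.2 fun t _ => isUnit_germ (hg t)
  · set f := ∏ t ∈ T, g t
    have hfT : ∀ w : Γ(N, V), f • w ∈ Submodule.span Γ(Y, V) (Set.range s) := by
      intro w
      have hw : w ∈ Submodule.span Γ(Y, V) (T : Set Γ(N, V)) := hT ▸ Submodule.mem_top
      refine Submodule.span_induction (fun t ht => ?_) (by simp) (fun a b _ _ ha hb => by
        rw [smul_add]; exact add_mem ha hb) (fun r a _ ha => by rw [smul_comm]; exact Submodule.smul_mem _ r ha) hw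
      obtain ⟨e, he⟩ : g t ∣ f := Finset.dvd_prod_of_mem g ht
      rw [he, mul_comm, mul_smul]
      exact Submodule.smul_mem _ _ (hgs t)
    refine eq_top_iff.2 fun w _ => ?_
    obtain ⟨m, w', hw'⟩ := (isLocAt_of_isQuasicoherent N hV).exists_of f w
    have hres : ∀ z ∈ Submodule.span Γ(Y, V) (Set.range s), res N (Y.basicOpen_le f) z ∈
        Submodule.span Γ(Y, Y.basicOpen f) (Set.range fun j => res N (Y.basicOpen_le f) (s j)) := by
      intro z hz
      refine Submodule.span_induction ?_ ?_ (fun a b _ _ ha hb => ?_) (fun r a _ ha => ?_) hz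
      · rintro _ ⟨j, rfl⟩; exact Submodule.subset_span ⟨j, rfl⟩
      · rw [res_zero]; exact zero_mem _
      · rw [show res N (Y.basicOpen_le f) (a + b) = res N _ a + res N _ b from map_add _ _ _]; exact add_mem ha hb
      · rw [res_smul]; exact Submodule.smul_mem _ _ ha
    have h2 := hres _ (hfT w')
    rw [res_smul, hw', smul_smul, ← pow_succ'] at h2
    exact (Submodule.smul_mem_iff_of_isUnit _ ((Y.toRingedSpace.isUnit_res_basicOpen f).pow _)).1 h2

end Affine


section Main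

variable {T T' : Scheme.{u}} {q : X ⟶ T} {q' : X' ⟶ T'} {t : T ⟶ T'}

theorem stalkIdeal_sq {Y : Scheme.{u}} (K : Y.IdealSheafData) (hK : K * K = ⊥) (z : Y) :
    Div89.stalkIdeal K z * Div89.stalkIdeal K z = ⊥ := by
  obtain ⟨U, hU⟩ := Div89.exists_affine_mem z
  rw [Div89.stalkIdeal_eq K U z hU, ← Ideal.map_mul]
  have : K.ideal U * K.ideal U = ⊥ := by
    have := congrArg (fun L : Y.IdealSheafData => L.ideal U) hK
    simpa using this
  rw [this, Ideal.map_bot]

theorem ker_stalkMap_eq (hsq : IsPullback i q q' t) [IsClosedImmersion i] [IsClosedImmersion t] (y : X) :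
    RingHom.ker (i.stalkMap y).hom = (Div89.stalkIdeal t.ker (q' (i y))).map (q'.stalkMap (i y)).hom := by
  rw [FlatMor68.FlatInfNbhd.ker_stalkMap_closedImmersion, An92.FSch.comap_ker_of_isPullback hsq,
    Div89.stalkIdeal_comap]

theorem pullη_smul' (y : X) (a : X'.presheaf.stalk (i y)) (m : M.presheaf.stalk (i y)) :
    DCK91.pullη i M y (a • m) = (i.stalkMap y).hom a • DCK91.pullη i M y m :=
  letI := (i.stalkMap y).hom.toAlgebra
  letI := Module.compHom (((Scheme.Modules.pullback i).obj M).presheaf.stalk y) (i.stalkMap y).hom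
  (DCK91.pullη i M y).map_smul a m

theorem pullη_comb {n : ℕ} {U : X'.Opens} (s : Fin n → Γ(M, U)) (y : X) (hy : i y ∈ U)
    (v : ULift.{u} (Fin n) → X'.presheaf.stalk (i y)) :
    DCK91.pullη i M y (comb M s (i y) hy v) =
      comb ((Scheme.Modules.pullback i).obj M) (fun j => pullS i M (s j)) y (show y ∈ i ⁻¹ᵁ U from hy)
        (fun j => (i.stalkMap y).hom (v j)) := by
  rw [comb_apply, comb_apply, map_sum]
  exact Finset.sum_congr rfl fun j _ => by rw [pullη_smul', DCK91.pullη_germ]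

theorem pullη_surjective [IsClosedImmersion i] (y : X) : Function.Surjective (DCK91.pullη i M y) := by
  letI := (i.stalkMap y).hom.toAlgebra
  letI := Module.compHom (((Scheme.Modules.pullback i).obj M).presheaf.stalk y) (i.stalkMap y).hom
  haveI : IsScalarTower (X'.presheaf.stalk (i y)) (X.presheaf.stalk y)
      (((Scheme.Modules.pullback i).obj M).presheaf.stalk y) := IsScalarTower.of_algebraMap_smul fun r e => rfl
  exact surjective_baseChange (S := X.presheaf.stalk y) (i.stalkMap_surjective y) (DCK91.isBaseChange_pullη i M y)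

theorem pullη_eq_zero [IsClosedImmersion i] (y : X) (m : M.presheaf.stalk (i y)) :
    DCK91.pullη i M y m = 0 ↔
      m ∈ RingHom.ker (i.stalkMap y).hom • (⊤ : Submodule (X'.presheaf.stalk (i y)) (M.presheaf.stalk (i y))) := by
  letI := (i.stalkMap y).hom.toAlgebra
  letI := Module.compHom (((Scheme.Modules.pullback i).obj M).presheaf.stalk y) (i.stalkMap y).hom
  haveI : IsScalarTower (X'.presheaf.stalk (i y)) (X.presheaf.stalk y)
      (((Scheme.Modules.pullback i).obj M).presheaf.stalk y) := IsScalarTower.of_algebraMap_smul fun r e => rfl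
  exact ker_baseChange (S := X.presheaf.stalk y) (i.stalkMap_surjective y) (DCK91.isBaseChange_pullη i M y) m

theorem mem_smul_pi {A : Type u} [CommRing A] {ι : Type u} [Finite ι] (K : Ideal A) (v : ι → A)
    (h : ∀ j, v j ∈ K) : v ∈ K • (⊤ : Submodule A (ι → A)) := by
  classical
  have := Fintype.ofFinite ι
  rw [pi_eq_sum_univ v]
  exact Submodule.sum_mem _ fun j _ => Submodule.smul_mem_smul (h j) trivial

theorem resO_sum {Y : Scheme.{u}} {U U' : Y.Opens} (h : U' ≤ U) {ι : Type*} (σ : Finset ι) (f : ι → Γ(Y, U)) :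
    resO Y h (∑ j ∈ σ, f j) = ∑ j ∈ σ, resO Y h (f j) :=
  map_sum (Y.presheaf.map (homOfLE h).op).hom _ _

theorem resO_mul {Y : Scheme.{u}} {U U' : Y.Opens} (h : U' ≤ U) (a b : Γ(Y, U)) :
    resO Y h (a * b) = resO Y h a * resO Y h b :=
  map_mul (Y.presheaf.map (homOfLE h).op).hom _ _

theorem comb_res {Y : Scheme.{u}} {n : ℕ} (N : Y.Modules) {U U' : Y.Opens} (h : U' ≤ U) (s : Fin n → Γ(N, U))
    (y : Y) (hy : y ∈ U') : comb N (fun j => res N h (s j)) y hy = comb N s y (h hy) := by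
  refine LinearMap.ext fun v => ?_
  rw [comb_apply, comb_apply]
  exact Finset.sum_congr rfl fun j _ => by rw [germM_res]

theorem res_lincomb' {Y : Scheme.{u}} {n : ℕ} (N : Y.Modules) {U U' : Y.Opens} (h : U' ≤ U) (s : Fin n → Γ(N, U))
    (v : Fin n → Γ(Y, U)) : res N h (∑ j, v j • s j) = ∑ j, resO Y h (v j) • res N h (s j) := by
  rw [res_sum]
  exact Finset.sum_congr rfl fun j _ => res_smul _ _ _

theorem exists_germ_family {Y : Scheme.{u}} {ι : Type*} [Finite ι] (N : Y.Modules) {x : Y} (e : ι → N.presheaf.stalk x)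
    {U : Y.Opens} (hx : x ∈ U) :
    ∃ (W : Y.Opens) (hxW : x ∈ W), W ≤ U ∧ IsAffineOpen W ∧ ∃ s : ι → Γ(N, W), ∀ j, germM N W x hxW (s j) = e j := by
  classical
  choose V hV s hs using fun j => germM_exist (e j)
  let U' : Y.Opens := ⟨(U : Set Y) ∩ ⋂ j, (V j : Set Y), U.2.inter (isOpen_iInter_of_finite fun j => (V j).2)⟩
  obtain ⟨W, hW, hxW, hWU⟩ := exists_isAffineOpen_mem_and_subset (X := Y) (U := U') (x := x) ⟨hx, Set.mem_iInter.2 hV⟩
  have hle : ∀ j, W ≤ V j := fun j z hz => Set.mem_iInter.1 (hWU hz).2 j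
  exact ⟨W, hxW, fun z hz => (hWU hz).1, hW, fun j => res N (hle j) (s j), fun j => by rw [germM_res, hs]⟩

/-- Generators and relations of a flat module whose inverse image is finitely presented. -/
theorem exists_presentation (hsq : IsPullback i q q' t) [IsClosedImmersion i] [IsClosedImmersion t]
    (hi : Function.Surjective i) (hI : t.ker * t.ker = ⊥) (hflat : FlatMod.IsFlatOver q' M)
    (hfp : CohB1.IsFP ((Scheme.Modules.pullback i).obj M)) (x : X') (W : X'.Opens) (hx : x ∈ W) :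
    ∃ (U : X'.Opens) (_ : x ∈ U) (_ : U ≤ W) (n c : ℕ) (s : Fin n → Γ(M, U)) (r : Fin c → Fin n → Γ(X', U)),
      (∀ l, ∑ j, r l j • s j = 0) ∧ ∀ (z : X') (hz : z ∈ U), Function.Surjective (comb M s z hz) ∧
        LinearMap.ker (comb M s z hz) ≤
          Submodule.span (X'.presheaf.stalk z) (Set.range fun l => germV z hz (r l)) := by
  classical
  let N := (Scheme.Modules.pullback i).obj M
  have := hfp
  have : N.IsQuasicoherent := inferInstance
  have : N.IsFiniteType := SheafOfModules.instIsFiniteTypeOfIsFinitePresentation N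
  obtain ⟨x₀, rfl⟩ := hi x
  -- generators
  obtain ⟨U₀, hU₀, hxU₀, hU₀W⟩ := exists_isAffineOpen_mem_and_subset hx
  obtain ⟨G, hG⟩ := (QC70.finite_sections_of_isFiniteType N (hU₀.preimage i)).fg_top
  choose e he using fun g : G => pullη_surjective i M x₀ (germM N (i ⁻¹ᵁ U₀) x₀ hxU₀ g.1)
  obtain ⟨U₁, hxU₁, hU₁U₀, hU₁, s₁, hs₁⟩ := exists_germ_family M (fun j : Fin G.card => e (G.equivFin.symm j)) hxU₀
  have hsurj₀ : Function.Surjective (comb N (fun j => pullS i M (s₁ j)) x₀ (show x₀ ∈ i ⁻¹ᵁ U₁ from hxU₁)) := by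
    intro z
    obtain ⟨f, tt, hf, htt⟩ := stalk_exists_smul (isLocAt_of_isQuasicoherent N (hU₀.preimage i)) (hU₀.preimage i)
      (show x₀ ∈ i ⁻¹ᵁ U₀ from hxU₀) z
    obtain ⟨u, hu⟩ := (isUnit_germ hf).exists_left_inv
    suffices hr : germM N (i ⁻¹ᵁ U₀) x₀ hxU₀ tt ∈
        LinearMap.range (comb N (fun j => pullS i M (s₁ j)) x₀ (show x₀ ∈ i ⁻¹ᵁ U₁ from hxU₁)) by
      have := Submodule.smul_mem _ u hr
      rw [← htt, smul_smul, hu, one_smul] at this
      exact this
    have htt' : tt ∈ Submodule.span Γ(X, i ⁻¹ᵁ U₀) (G : Set Γ(N, i ⁻¹ᵁ U₀)) := hG ▸ Submodule.mem_top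
    refine Submodule.span_induction (fun g hg => ?_) ?_ (fun a b _ _ ha hb => ?_) (fun r a _ ha => ?_) htt'
    · refine ⟨Pi.single ⟨G.equivFin ⟨g, hg⟩⟩ 1, ?_⟩
      rw [comb_apply, Fintype.sum_eq_single ⟨G.equivFin ⟨g, hg⟩⟩ (fun j hj => by rw [Pi.single_eq_of_ne hj, zero_smul]),
        Pi.single_eq_same, one_smul, ← DCK91.pullη_germ, hs₁, Equiv.symm_apply_apply]
      exact he ⟨g, hg⟩
    · rw [germM_zero]; exact zero_mem _
    · rw [germM_add]; exact add_mem ha hb
    · rw [germM_smul]; exact Submodule.smul_mem _ _ ha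
  obtain ⟨f, hf, hspan⟩ := exists_basicOpen_span N (hU₁.preimage i) _
    (QC70.finite_sections_of_isFiniteType N (hU₁.preimage i)) x₀ hxU₁ hsurj₀
  obtain ⟨f', rfl⟩ := i.app_surjective U₁ hU₁ f
  let U₂ := X'.basicOpen f'
  have hV₂ : i ⁻¹ᵁ U₂ = X.basicOpen (i.app U₁ f') := Scheme.preimage_basicOpen i f'
  have hle₂ : U₂ ≤ U₁ := X'.basicOpen_le f'
  let n := G.card
  let s₂ : Fin n → Γ(M, U₂) := fun j => res M hle₂ (s₁ j)
  have hpull : ∀ j, pullS i M (s₂ j) = res N ((Opens.map i.base).monotone hle₂) (pullS i M (s₁ j)) := fun j =>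
    app_res ((Scheme.Modules.pullbackPushforwardAdjunction i).unit.app M) hle₂ (s₁ j)
  have hspan₂ : Submodule.span Γ(X, i ⁻¹ᵁ U₂) (Set.range fun j => pullS i M (s₂ j)) = ⊤ := by
    simp only [hpull]
    revert hspan
    generalize X.basicOpen_le (i.app U₁ f') = hb
    generalize ((Opens.map i.base).monotone hle₂ : i ⁻¹ᵁ U₂ ≤ i ⁻¹ᵁ U₁) = hc
    revert hb hc
    rw [hV₂]
    intro hc hb h
    exact h
  have hU₂ : IsAffineOpen U₂ := hU₁.basicOpen f'
  have hxU₂ : i x₀ ∈ U₂ := by
    show x₀ ∈ i ⁻¹ᵁ U₂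
    rw [hV₂]; exact hf
  -- relations
  let φ : (Fin n → Γ(X, i ⁻¹ᵁ U₂)) →ₗ[Γ(X, i ⁻¹ᵁ U₂)] Γ(N, i ⁻¹ᵁ U₂) :=
    Fintype.linearCombination Γ(X, i ⁻¹ᵁ U₂) fun j => pullS i M (s₂ j)
  have hφ : Function.Surjective φ := by
    rw [← LinearMap.range_eq_top, Fintype.range_linearCombination, hspan₂]
  have := Props58.LocFree.finitePresentation_sections N (hU₂.preimage i)
  obtain ⟨Rl, hRl⟩ := Module.FinitePresentation.fg_ker φ hφ
  let σ : Fin Rl.card → Fin n → Γ(X, i ⁻¹ᵁ U₂) := fun l => (Rl.equivFin.symm l).1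
  have hσspan : ∀ v : Fin n → Γ(X, i ⁻¹ᵁ U₂), ∑ j, v j • pullS i M (s₂ j) = 0 →
      v ∈ Submodule.span Γ(X, i ⁻¹ᵁ U₂) (Set.range σ) := by
    intro v hv
    have : v ∈ LinearMap.ker φ := (Fintype.linearCombination_apply _ _ _).trans hv
    rw [← hRl] at this
    refine Submodule.span_mono (fun w hw => ?_) this
    exact ⟨Rl.equivFin ⟨w, hw⟩, by simp [σ]⟩
  have hσ0 : ∀ l, ∑ j, σ l j • pullS i M (s₂ j) = 0 := fun l => by
    have h : σ l ∈ LinearMap.ker φ := by
      rw [← hRl]; exact Submodule.subset_span (Rl.equivFin.symm l).2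
    exact (Fintype.linearCombination_apply _ _ _).symm.trans h
  choose v hv using fun l j => i.app_surjective U₂ hU₂ (σ l j)
  -- the stalkwise situation
  have hJ : ∀ y, RingHom.ker (i.stalkMap y).hom = _ := ker_stalkMap_eq i hsq
  have hsurj : ∀ (y : X) (hy : i y ∈ U₂), Function.Surjective (comb M s₂ (i y) hy) := by
    intro y hy
    letI := (q'.stalkMap (i y)).hom.toAlgebra
    refine LinearMap.range_eq_top.1 (eq_top_of_forall (Div89.stalkIdeal t.ker (q' (i y))) (stalkIdeal_sq _ hI _) _ fun m => ?_)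
    obtain ⟨b, hb⟩ := surjective_comb N (hU₂.preimage i) _ hspan₂ y hy (DCK91.pullη i M y m)
    choose a ha using fun j => i.stalkMap_surjective y (b j)
    refine ⟨comb M s₂ (i y) hy a, ⟨a, rfl⟩, ?_⟩
    rw [RingHom.algebraMap_toAlgebra, ← hJ y, ← pullη_eq_zero, map_sub, pullη_comb, funext ha, hb, sub_self]
  have hcorr : ∀ l, ∃ k : ULift.{u} (Fin n) → X'.presheaf.stalk (i x₀),
      comb M s₂ (i x₀) hxU₂ k = 0 ∧
        ∀ j, (i.stalkMap x₀).hom (k j) = X.presheaf.germ (i ⁻¹ᵁ U₂) x₀ hxU₂ (σ l j.down) := by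
    intro l
    have h0 : comb M s₂ (i x₀) hxU₂ (germV (i x₀) hxU₂ (v l)) ∈ RingHom.ker (i.stalkMap x₀).hom •
        (⊤ : Submodule (X'.presheaf.stalk (i x₀)) (M.presheaf.stalk (i x₀))) := by
      rw [← pullη_eq_zero, pullη_comb]
      have hσg : (fun j => (i.stalkMap x₀).hom (germV (i x₀) hxU₂ (v l) j)) =
          germV (U := i ⁻¹ᵁ U₂) x₀ hxU₂ (σ l) := funext fun j =>
        (Scheme.Hom.germ_stalkMap_apply i U₂ x₀ hxU₂ _).trans (congrArg _ (hv l j.down))
      rw [hσg, ← germM_lincomb, hσ0, germM_zero]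
    letI := (q'.stalkMap (i x₀)).hom.toAlgebra
    rw [hJ] at h0
    obtain ⟨w, hw, hw0⟩ := exists_correction (Div89.stalkIdeal t.ker (q' (i x₀))) _ (hsurj x₀ hxU₂) _ h0
    refine ⟨germV (i x₀) hxU₂ (v l) - w, hw0, fun j => ?_⟩
    have hwj : (i.stalkMap x₀).hom (w j) = 0 := by
      rw [RingHom.algebraMap_toAlgebra, ← hJ] at hw
      refine Submodule.smul_induction_on (p := fun w => (i.stalkMap x₀).hom (w j) = 0) hw (fun a ha m _ => ?_)
        fun a b ha hb => ?_
      · rw [Pi.smul_apply, smul_eq_mul, map_mul, show (i.stalkMap x₀).hom a = 0 from ha, zero_mul]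
      · rw [Pi.add_apply, map_add, ha, hb, add_zero]
    rw [Pi.sub_apply, map_sub, hwj, sub_zero]
    exact (Scheme.Hom.germ_stalkMap_apply i U₂ x₀ hxU₂ _).trans (congrArg _ (hv l j.down))
  choose k hk0 hkσ using hcorr
  -- spread out
  choose Vr hVr rr hrr using fun (lj : Fin Rl.card × Fin n) =>
    TopCat.Presheaf.exists_germ_eq X'.presheaf (k lj.1 ⟨lj.2⟩)
  let U₃ : X'.Opens := ⟨(U₂ : Set X') ∩ ⋂ lj, (Vr lj : Set X'), U₂.2.inter (isOpen_iInter_of_finite fun lj => (Vr lj).2)⟩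
  have hxU₃ : i x₀ ∈ U₃ := ⟨hxU₂, Set.mem_iInter.2 hVr⟩
  have h₃₂ : U₃ ≤ U₂ := fun z hz => hz.1
  let r₃ : Fin Rl.card → Fin n → Γ(X', U₃) := fun l j =>
    resO X' (show U₃ ≤ Vr (l, j) from fun z hz => Set.mem_iInter.1 hz.2 (l, j)) (rr (l, j))
  have hr₃ : ∀ l, germV (i x₀) hxU₃ (r₃ l) = k l := fun l => funext fun j => by
    change X'.presheaf.germ U₃ (i x₀) hxU₃ (resO X' _ (rr (l, j.down))) = _
    rw [germ_resO, hrr]
  -- relations hold near the point
  choose A hA hxA hA0 using fun l => germM_eq_zero (M := M) (hx := hxU₃) (s := ∑ j, r₃ l j • res M h₃₂ (s₂ j)) (by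
    rw [germM_lincomb, hr₃, comb_res]; exact hk0 l)
  have hσeq : ∀ (lj : Fin Rl.card × Fin n), ∃ (B : X'.Opens), i x₀ ∈ B ∧ ∀ (z : X) (hz : i z ∈ B ⊓ U₃),
      (i.stalkMap z).hom (X'.presheaf.germ U₃ (i z) hz.2 (r₃ lj.1 lj.2)) =
        X.presheaf.germ (i ⁻¹ᵁ U₂) z (h₃₂ hz.2) (σ lj.1 lj.2) := by
    intro lj
    have he : X.presheaf.germ (i ⁻¹ᵁ U₃) x₀ hxU₃ (i.app U₃ (r₃ lj.1 lj.2)) =
        X.presheaf.germ (i ⁻¹ᵁ U₂) x₀ hxU₂ (σ lj.1 lj.2) := by
      rw [← hkσ lj.1 ⟨lj.2⟩, ← hr₃]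
      exact (Scheme.Hom.germ_stalkMap_apply i U₃ x₀ hxU₃ _).symm
    obtain ⟨D, hD, i₁, i₂, heq⟩ := TopCat.Presheaf.germ_eq X.presheaf x₀ _ _ _ _ he
    obtain ⟨B, hB, hBD⟩ := i.isClosedEmbedding.isInducing.isOpen_iff.1 D.2
    refine ⟨⟨B, hB⟩, show x₀ ∈ i ⁻¹' B by rw [hBD]; exact hD, fun z hz => ?_⟩
    have hzD : z ∈ D := (Set.ext_iff.1 hBD z).1 hz.1
    refine (Scheme.Hom.germ_stalkMap_apply i U₃ z hz.2 _).trans ?_
    rw [← TopCat.Presheaf.germ_res_apply X.presheaf i₁ z hzD, heq, TopCat.Presheaf.germ_res_apply]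
  choose B hxB hB using hσeq
  let U : X'.Opens := ⟨(U₃ : Set X') ∩ ((⋂ l, (A l : Set X')) ∩ ⋂ lj, (B lj : Set X')),
    U₃.2.inter ((isOpen_iInter_of_finite fun l => (A l).2).inter (isOpen_iInter_of_finite fun lj => (B lj).2))⟩
  have hU₃' : U ≤ U₃ := fun z hz => hz.1
  refine ⟨U, ⟨hxU₃, Set.mem_iInter.2 hxA, Set.mem_iInter.2 hxB⟩,
    (hU₃'.trans (h₃₂.trans (hle₂.trans hU₁U₀))).trans hU₀W, n, Rl.card,
    fun j => res M (hU₃'.trans h₃₂) (s₂ j), fun l j => resO X' hU₃' (r₃ l j), fun l => ?_, fun z hz => ?_⟩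
  · have hUA : U ≤ A l := fun z hz => Set.mem_iInter.1 hz.2.1 l
    have := congrArg (res M hUA) (hA0 l)
    rw [res_res, res_zero, res_lincomb'] at this
    refine Eq.trans ?_ this
    exact Finset.sum_congr rfl fun j _ => by rw [res_res]
  · obtain ⟨y, rfl⟩ := hi z
    have hy₂ : i y ∈ U₂ := h₃₂ (hU₃' hz)
    rw [comb_res]
    refine ⟨hsurj y hy₂, ?_⟩
    letI := (q'.stalkMap (i y)).hom.toAlgebra
    letI := FlatMod.moduleStalkOver q' M (i y)
    haveI : IsScalarTower (T'.presheaf.stalk (q' (i y))) (X'.presheaf.stalk (i y)) (M.presheaf.stalk (i y)) :=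
      IsScalarTower.of_algebraMap_smul fun a b => rfl
    haveI : Module.Flat (T'.presheaf.stalk (q' (i y))) (M.presheaf.stalk (i y)) := hflat (i y)
    refine ker_le (Div89.stalkIdeal t.ker (q' (i y))) (stalkIdeal_sq _ hI _) _ (hsurj y hy₂) _ ?_ fun kk hkk => ?_
    · rw [Submodule.span_le]
      rintro _ ⟨l, rfl⟩
      have hUA : U ≤ A l := fun z hz => Set.mem_iInter.1 hz.2.1 l
      have h0 := congrArg (fun e => germM M (A l) (i y) (hUA hz) e) (hA0 l)
      rw [germM_res, germM_lincomb, comb_res, germM_zero] at h0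
      refine Eq.trans (congrArg _ ?_) h0
      exact funext fun j => germ_resO _ _ _
    · have h1 : comb N (fun j => pullS i M (s₂ j)) y hy₂ (fun j => (i.stalkMap y).hom (kk j)) = 0 := by
        rw [← pullη_comb (hy := hy₂), hkk, map_zero]
      obtain ⟨c, hc⟩ := Submodule.mem_span_range_iff_exists_fun _ |>.1
        (ker_comb_le N (hU₂.preimage i) _ σ hσspan y hy₂ h1)
      choose a ha using fun l => i.stalkMap_surjective y (c l)
      refine ⟨∑ l, a l • germV (i y) hz (fun j => resO X' hU₃' (r₃ l j)),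
        Submodule.sum_mem _ fun l _ => Submodule.smul_mem _ _ (Submodule.subset_span ⟨l, rfl⟩), ?_⟩
      rw [RingHom.algebraMap_toAlgebra, ← hJ y]
      refine mem_smul_pi _ _ fun j => ?_
      rw [RingHom.mem_ker, Pi.sub_apply, Finset.sum_apply, map_sub, map_sum, sub_eq_zero]
      rw [← congrFun hc j, Finset.sum_apply]
      refine Finset.sum_congr rfl fun l _ => ?_
      rw [Pi.smul_apply, Pi.smul_apply, smul_eq_mul, smul_eq_mul, map_mul, ha l]
      change _ = c l * (i.stalkMap y).hom (X'.presheaf.germ _ (i y) hz (resO X' hU₃' (r₃ l j.down)))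
      rw [germ_resO]
      exact congrArg (c l * ·) (hB (l, j.down) y ⟨Set.mem_iInter.1 hz.2.2 (l, j.down), hU₃' hz⟩).symm

open SiteMod in
/-- Finite presentation descends along first order thickenings of flat modules. -/
theorem isFP_of_pullback (hsq : IsPullback i q q' t) (ht : MoreMor.IsFirstOrderThickening t)
    (hflat : FlatMod.IsFlatOver q' M) (hfp : CohB1.IsFP ((Scheme.Modules.pullback i).obj M)) : CohB1.IsFP M := by
  classical
  have := ht.1.1
  have : IsClosedImmersion i := MorphismProperty.of_isPullback hsq.flip ‹IsClosedImmersion t›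
  have hsurj : Surjective i := MorphismProperty.of_isPullback hsq.flip ht.1.2
  refine isFinitePresentation_of_locPres (O := X'.sheaf) M fun W => ?_
  refine ⟨{ arrows := fun V _ => Nonempty (LocPres (Mod48.pre (O := X'.sheaf) M) V)
            downward_closed := fun {_ _ _} h g => h.map fun d => d.pullback g }, fun x hx => ?_, fun V g hg => hg⟩
  obtain ⟨U, hxU, hUW, n, c, s, r, hrel, hstalk⟩ :=
    exists_presentation i M hsq i.surjective ht.2 hflat hfp x W hx
  refine ⟨U, homOfLE hUW, ⟨?_⟩, hxU⟩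
  refine { ι := ULift.{u} (Fin n), κ := ULift.{u} (Fin c), a := fun j => s j.down
           r := fun l j => r l.down j.down, rel := fun l => ?_, gen := fun V g z => ?_, kerr := fun V g cc hcc => ?_ }
  · exact (Fintype.sum_equiv Equiv.ulift _ (fun j => r l.down j • s j) fun j => rfl).trans (hrel l.down)
  · refine ⟨{ arrows := fun V' v => ∃ cc : ULift.{u} (Fin n) → Γ(X', V'),
                res M v.le z = ∑ j, cc j • res M (v.le.trans g.le) (s j.down)
              downward_closed := ?_ }, fun y hy => ?_, fun V' v hv => hv⟩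
    · intro V' V'' v ⟨cc, hcc⟩ v'
      refine ⟨fun j => resO X' v'.le (cc j), ?_⟩
      rw [← res_res v.le v'.le, hcc, res_sum]
      exact Finset.sum_congr rfl fun j _ => by rw [res_smul, res_res]
    · obtain ⟨k, hk⟩ := (hstalk y (g.le hy)).1 (germM M V y hy z)
      choose Vk hVk kk hkk using fun j => TopCat.Presheaf.exists_germ_eq X'.presheaf (k j)
      let V₁ : X'.Opens := ⟨(V : Set X') ∩ ⋂ j, (Vk j : Set X'), V.2.inter (isOpen_iInter_of_finite fun j => (Vk j).2)⟩
      have hy₁ : y ∈ V₁ := ⟨hy, Set.mem_iInter.2 hVk⟩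
      have h₁ : V₁ ≤ V := fun a ha => ha.1
      let k' : ULift.{u} (Fin n) → Γ(X', V₁) := fun j =>
        resO X' (show V₁ ≤ Vk j from fun a ha => Set.mem_iInter.1 ha.2 j) (kk j)
      have h0 : germM M V₁ y hy₁ (res M h₁ z - ∑ j, k' j • res M (h₁.trans g.le) (s j.down)) = 0 := by
        rw [show germM M V₁ y hy₁ (res M h₁ z - _) = germM M V₁ y hy₁ (res M h₁ z) -
          germM M V₁ y hy₁ (∑ j, k' j • res M (h₁.trans g.le) (s j.down)) from map_sub _ _ _, germM_res, ← hk, comb_apply,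
          sub_eq_zero]
        refine Eq.symm ((map_sum (M.presheaf.germ V₁ y hy₁).hom _ _).trans (Finset.sum_congr rfl fun j _ => ?_))
        refine (germM_smul hy₁ _ _).trans ?_
        rw [germM_res, germ_resO, hkk]
      obtain ⟨V₂, hV₂, hy₂, h2⟩ := germM_eq_zero h0
      refine ⟨V₂, homOfLE (hV₂.trans h₁), ⟨fun j => resO X' hV₂ (k' j), ?_⟩, hy₂⟩
      rw [show res M hV₂ (res M h₁ z - ∑ j, k' j • res M (h₁.trans g.le) (s j.down)) =
        res M hV₂ (res M h₁ z) - res M hV₂ (∑ j, k' j • res M (h₁.trans g.le) (s j.down)) from map_sub _ _ _,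
        sub_eq_zero, res_res, res_sum] at h2
      refine h2.trans (Finset.sum_congr rfl fun j _ => ?_)
      rw [res_smul, res_res]
  · refine ⟨{ arrows := fun V' v => ∃ d : ULift.{u} (Fin c) → Γ(X', V'), ∀ j : ULift.{u} (Fin n),
                resO X' v.le (cc j) = ∑ l, d l * resO X' (v.le.trans g.le) (r l.down j.down)
              downward_closed := ?_ }, fun y hy => ?_, fun V' v hv => hv⟩
    · intro V' V'' v ⟨d, hd⟩ v'
      refine ⟨fun l => resO X' v'.le (d l), fun j => ?_⟩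
      rw [← resO_resO v.le v'.le, hd, resO_sum]
      exact Finset.sum_congr rfl fun l _ => by rw [resO_mul, resO_resO]
    · have hker : comb M s y (g.le hy) (fun j => X'.presheaf.germ V y hy (cc j)) = 0 := by
        have hcc' : ∑ j, (show Γ(X', V) from cc j) • res M g.le (s j.down) = 0 := hcc
        have := congrArg (germM M V y hy) hcc'
        rw [germM_zero] at this
        refine Eq.trans ?_ this
        rw [comb_apply]
        refine Eq.symm ((map_sum (M.presheaf.germ V y hy).hom _ _).trans (Finset.sum_congr rfl fun j _ => ?_))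
        exact (germM_smul hy (cc j) (res M g.le (s j.down))).trans (by rw [germM_res])
      obtain ⟨d, hd⟩ := Submodule.mem_span_range_iff_exists_fun _ |>.1 ((hstalk y (g.le hy)).2 hker)
      choose Vd hVd dd hdd using fun l => TopCat.Presheaf.exists_germ_eq X'.presheaf (d l)
      let V₁ : X'.Opens := ⟨(V : Set X') ∩ ⋂ l, (Vd l : Set X'), V.2.inter (isOpen_iInter_of_finite fun l => (Vd l).2)⟩
      have hy₁ : y ∈ V₁ := ⟨hy, Set.mem_iInter.2 hVd⟩
      have h₁ : V₁ ≤ V := fun a ha => ha.1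
      let d' : Fin c → Γ(X', V₁) := fun l => resO X' (show V₁ ≤ Vd l from fun a ha => Set.mem_iInter.1 ha.2 l) (dd l)
      have h0 : ∀ j : ULift.{u} (Fin n), X'.presheaf.germ V₁ y hy₁ (resO X' h₁ (cc j)) =
          X'.presheaf.germ V₁ y hy₁ (∑ l, d' l * resO X' (h₁.trans g.le) (r l j.down)) := by
        intro j
        rw [germ_resO, map_sum]
        refine Eq.trans (congrFun hd j).symm ?_
        rw [Finset.sum_apply]
        refine Finset.sum_congr rfl fun l _ => ?_
        rw [Pi.smul_apply, smul_eq_mul, map_mul, germ_resO, germ_resO, hdd]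
      choose W' hW' i₁ i₂ heq using fun j => TopCat.Presheaf.germ_eq X'.presheaf y hy₁ hy₁ _ _ (h0 j)
      let V₂ : X'.Opens := ⟨(V₁ : Set X') ∩ ⋂ j, (W' j : Set X'), V₁.2.inter (isOpen_iInter_of_finite fun j => (W' j).2)⟩
      have h₂ : V₂ ≤ V₁ := fun a ha => ha.1
      refine ⟨V₂, homOfLE (h₂.trans h₁), ⟨fun l => resO X' h₂ (d' l.down), fun j => ?_⟩, ⟨hy₁, Set.mem_iInter.2 hW'⟩⟩
      have hVW : V₂ ≤ W' j := fun a ha => Set.mem_iInter.1 (show a ∈ (V₁ : Set X') ∩ ⋂ j, (W' j : Set X') from ha).2 j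
      have h3 := congrArg (resO X' hVW) (heq j)
      change resO X' _ (resO X' (i₁ j).le _) = resO X' _ (resO X' (i₂ j).le _) at h3
      rw [resO_resO, resO_resO, resO_resO, resO_sum] at h3
      refine h3.trans ?_
      refine (Fintype.sum_equiv Equiv.ulift.symm _ _ fun l => ?_)
      rw [resO_mul, resO_resO]
      simp only [d', resO_resO]
      rfl

end Main

end Groth.Agent.FP47
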